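import Cfsg.Agent.H689.CA.Bor

/-!
# S3852, type A block, (BOR), part 2 (helper689): `bor_st : Gd E → BorSt E`
-/

set_option autoImplicit false

namespace Cfsg.Agent.H689.CA

open Matrix Cfsg.Agent.H308.CA

variable {ι : Type} [Fintype ι] [DecidableEq ι] {E : Type} [CommRing E] [StarRing E]

theorem exists_half (h : Gd E) {p : ℕ} (hp : p.Prime) (hp2 : p ≠ 2) [CharP E p] {a : E} (ha : star a = a) :
    ∃ c : E, c + star c = a ∧ star c = c := by
  obtain ⟨c2, hc2⟩ := (two_unit h hp hp2).exists_left_inv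
  have hcs : star c2 = c2 := by
    have h1 : star c2 * 2 = 1 := by
      have := congrArg star hc2
      rw [star_mul, star_ofNat, star_one, mul_comm] at this
      exact this
    calc star c2 = star c2 * (c2 * 2) := by rw [hc2, mul_one]
      _ = (star c2 * 2) * c2 := by ring
      _ = c2 := by rw [h1, one_mul]
  have hs : star (c2 * a) = c2 * a := by rw [star_mul, ha, hcs, mul_comm]
  refine ⟨c2 * a, ?_, hs⟩
  rw [hs]
  calc c2 * a + c2 * a = (c2 * 2) * a := by ring
    _ = a := by rw [hc2, one_mul]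

/-- **step 3**: the fixed vectors are the multiples of `x` -/
theorem Cv_eq (h : Gd E) {p : ℕ} (hp : p.Prime) (hp2 : p ≠ 2) [CharP E p] (hι : 3 ≤ Fintype.card ι)
    {T : Subgroup (SU ι E)} (hT : ¬ p ∣ T.index)
    {x y : ι → E} (hx : x ∈ Cv T) (hx' : x ∈ Cp T) (hy : br y x = 1) {v : ι → E} (hv : v ∈ Cv T) :
    v = br y v • x := by
  have hn := h.nontrivial
  have hfin := h.finite
  have : Fact p.Prime := ⟨hp⟩
  have : Nonempty ι := Fintype.card_pos_iff.1 (by omega)
  by_cases hex : ∃ w, br x w = 0 ∧ br w v ≠ 0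
  · exfalso
    obtain ⟨w, hw, hwv⟩ := hex
    have hxx : br x x = 0 := hx' x hx
    obtain ⟨c, hc, -⟩ := exists_half h hp hp2 (a := br w w) (star_br w w)
    obtain ⟨g, hg⟩ : ∃ g : SU ι E, H308.CA.mt g = sg x w c := ⟨mkSU _ (sg_unitary hxx hw hc) (sg_det hxx hw), rfl⟩
    have hgp : g ^ p = 1 := by
      apply mt_injective
      rw [map_pow, hg, map_one]
      exact pow_p_of_cube hp hp2 (sg_cube hxx hw)
    have hgc : ∀ d ∈ Cv T, mt g *ᵥ d = d - br w d • x := by
      intro d hd
      have h1 : br x d = 0 := by rw [← star_br, hx' d hd, star_zero]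
      rw [hg, sg_mulVec, h1, zero_smul, mul_zero, add_zero, add_zero]
    have hgC : ∀ d ∈ Cv T, mt g *ᵥ d ∈ Cv T := by
      intro d hd
      rw [hgc d hd]
      exact Submodule.sub_mem _ hd (Submodule.smul_mem _ _ hx)
    -- the pointwise and the setwise stabiliser of `Cv T`
    let K : Subgroup (SU ι E) :=
      { carrier := {u | ∀ d ∈ Cv T, mt u *ᵥ d = d}
        mul_mem' := fun {a b} ha hb d hd => by rw [map_mul, ← mulVec_mulVec, hb d hd, ha d hd]
        one_mem' := fun d _ => by rw [map_one, one_mulVec]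
        inv_mem' := fun {a} ha d hd => by rw [mt_inv]; exact mt_inv_mulVec (ha d hd) }
    let P : Subgroup (SU ι E) :=
      { carrier := {u | ∀ d, mt u *ᵥ d ∈ Cv T ↔ d ∈ Cv T}
        mul_mem' := fun {a b} ha hb d => by rw [map_mul, ← mulVec_mulVec, ha, hb]
        one_mem' := fun d => by rw [map_one, one_mulVec]
        inv_mem' := fun {a} ha d => by rw [← ha, mulVec_mulVec, ← map_mul, mul_inv_cancel, map_one, one_mulVec] }
    have hTK : T ≤ K := fun t ht d hd => hd t ht
    have hKP : K ≤ P := by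
      intro u hu d
      refine ⟨fun hd => ?_, fun hd => by rw [hu d hd]; exact hd⟩
      have h1 := (K.inv_mem hu) _ hd
      rw [mulVec_mulVec, ← map_mul, inv_mul_cancel, map_one, one_mulVec] at h1
      rw [h1]; exact hd
    have hgP : g ∈ P := by
      intro d
      refine ⟨fun hd => ?_, hgC d⟩
      have h1 : ∀ k : ℕ, mt (g ^ (k + 1)) *ᵥ d ∈ Cv T := by
        intro k
        induction k with
        | zero => rwa [zero_add, pow_one]
        | succ k ih => rw [pow_succ', map_mul, ← mulVec_mulVec]; exact hgC _ ih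
      have h2 := h1 (p - 1)
      rw [Nat.sub_add_cancel hp.one_lt.le, hgp, map_one, one_mulVec] at h2
      exact h2
    have hgK : g ∉ K := by
      intro h1
      have h2 := h1 v hv
      rw [hgc v hv, sub_eq_self] at h2
      have h3 := congrArg (br y) h2
      rw [br_smul_right, hy, mul_one, br_zero_right] at h3
      exact hwv h3
    have hN : (K.subgroupOf P).Normal := by
      refine ⟨fun a ha b => ?_⟩
      rw [Subgroup.mem_subgroupOf] at ha ⊢
      intro d hd
      have h1 : mt ((b⁻¹ : P) : SU ι E) *ᵥ d ∈ Cv T := ((b⁻¹).2 d).2 hd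
      have h2 := ha _ h1
      rw [Subgroup.coe_mul, Subgroup.coe_mul, map_mul, map_mul, ← mulVec_mulVec, ← mulVec_mulVec, h2, mulVec_mulVec,
        ← map_mul, ← Subgroup.coe_mul, mul_inv_cancel, Subgroup.coe_one, map_one, one_mulVec]
    have h1 : orderOf (QuotientGroup.mk ⟨g, hgP⟩ : P ⧸ K.subgroupOf P) = p := by
      refine orderOf_eq_prime ?_ ?_
      · rw [← QuotientGroup.mk_pow, QuotientGroup.eq_one_iff, Subgroup.mem_subgroupOf]
        rw [Subgroup.coe_pow, hgp]
        exact one_mem K
      · rw [Ne, QuotientGroup.eq_one_iff, Subgroup.mem_subgroupOf]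
        exact hgK
    have h2 : p ∣ K.relIndex P := by
      rw [← h1]
      exact orderOf_dvd_natCard _
    apply hT
    refine h2.trans ((Dvd.intro _ (Subgroup.relIndex_mul_index hKP)).trans ?_)
    exact Dvd.intro_left _ (Subgroup.relIndex_mul_index hTK)
  · push Not at hex
    rw [← sub_eq_zero]
    refine eq_zero_of_br fun z => ?_
    have hxy : br x y = 1 := by rw [← star_br, hy, star_one]
    have h1 := hex (z - br x z • y) (by rw [br_sub_right, br_smul_right, hxy, mul_one, sub_self])
    rw [br_sub_left, br_smul_left, star_br] at h1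
    rw [br_sub_right, br_smul_right, ← h1]
    ring

/-- the matrices with fixed columns -/
def II (T : Subgroup (SU ι E)) : AddSubgroup (Matrix ι ι E) where
  carrier := {a | ∀ t ∈ T, mt t * a = a}
  zero_mem' t _ := mul_zero _
  add_mem' := by
    intro a b ha hb t ht
    rw [mul_add, ha t ht, hb t ht]
  neg_mem' := by
    intro a ha t ht
    rw [mul_neg, ha t ht]

/-- the matrices with columns orthogonal to the fixed columns -/
def JJ (T : Subgroup (SU ι E)) : AddSubgroup (Matrix ι ι E) where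
  carrier := {b | ∀ a ∈ II T, star a * b = 0}
  zero_mem' a _ := mul_zero _
  add_mem' := by
    intro a b ha hb t ht
    rw [mul_add, ha t ht, hb t ht, add_zero]
  neg_mem' := by
    intro a ha t ht
    rw [mul_neg, ha t ht, neg_zero]

theorem mem_II {T : Subgroup (SU ι E)} {a : Matrix ι ι E} : a ∈ II T ↔ ∀ t ∈ T, mt t * a = a := Iff.rfl

theorem mem_JJ {T : Subgroup (SU ι E)} {b : Matrix ι ι E} : b ∈ JJ T ↔ ∀ a ∈ II T, star a * b = 0 := Iff.rfl

/-- the elements acting as `s = ± 1` on `II`, and trivially on `JJ / II` -/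
def US (T : Subgroup (SU ι E)) (s : ℤˣ) (u : Matrix ι ι E) : Prop :=
  (∀ a ∈ II T, u * a = (s : ℤ) • a) ∧ ∀ b ∈ JJ T, u * b - b ∈ II T

theorem US.one (T : Subgroup (SU ι E)) : US T 1 (1 : Matrix ι ι E) :=
  ⟨fun a _ => by rw [one_mul, Units.val_one, one_smul], fun b _ => by rw [one_mul, sub_self]; exact zero_mem _⟩

theorem US.mul {T : Subgroup (SU ι E)} {s s' : ℤˣ} {u v : Matrix ι ι E} (hu : US T s u) (hv : US T s' v) :
    US T (s * s') (u * v) := by
  refine ⟨fun a ha => ?_, fun b hb => ?_⟩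
  · rw [mul_assoc, hv.1 a ha, mul_smul_comm, hu.1 a ha, smul_smul, Units.val_mul, mul_comm]
  · have e : u * v * b - b = u * (v * b - b) + (u * b - b) := by
      rw [mul_sub, mul_assoc]; abel
    rw [e]
    refine add_mem ?_ (hu.2 b hb)
    rw [hu.1 _ (hv.2 b hb)]
    exact zsmul_mem (hv.2 b hb) _

theorem US.str {T : Subgroup (SU ι E)} {s : ℤˣ} {u : Matrix ι ι E} (hu : US T s u) (h1 : star u * u = 1) :
    US T s (star u) := by
  have hss : (s : ℤ) * s = 1 := by
    rw [← Units.val_mul, Int.units_mul_self, Units.val_one]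
  have h2 : ∀ a ∈ II T, star u * a = (s : ℤ) • a := by
    intro a ha
    have h3 := hu.1 a ha
    calc star u * a = star u * (((s : ℤ) * s) • a) := by rw [hss, one_smul]
      _ = (s : ℤ) • (star u * (u * a)) := by rw [h3, mul_smul_comm, mul_smul_comm, smul_smul]
      _ = (s : ℤ) • a := by rw [← mul_assoc, h1, one_mul]
  refine ⟨h2, fun b hb => ?_⟩
  have e : star u * b - b = -(star u * (u * b - b)) := by
    rw [mul_sub, ← mul_assoc, h1, one_mul, neg_sub]
  rw [e, h2 _ (hu.2 b hb)]
  exact neg_mem (zsmul_mem (hu.2 b hb) _)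

/-- the elements of `US T 1` are unipotent -/
theorem US.cube {T : Subgroup (SU ι E)} {u : Matrix ι ι E} (hu : US T 1 u) (h1 : star u * u = 1) :
    (u - 1) ^ 3 = 0 := by
  have h2 : u - 1 ∈ JJ T := by
    intro a ha
    have h3 := (hu.str h1).1 a ha
    rw [Units.val_one, one_smul] at h3
    have h4 := congrArg star h3
    rw [star_mul, star_star] at h4
    rw [mul_sub, h4, mul_one, sub_self]
  have h3 : (u - 1) * (u - 1) ∈ II T := by
    have := hu.2 _ h2
    rwa [sub_mul, one_mul]
  have h4 := hu.1 _ h3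
  rw [Units.val_one, one_smul] at h4
  rw [pow_succ', sq, sub_mul, one_mul, h4, sub_self]

theorem red (h : Gd E) : IsReduced E := by
  cases h with
  | uni F i s _ hs => infer_instance
  | lin F i _ => exact inferInstanceAs (IsReduced (F × F))

theorem eq_one_of_pow (h : Gd E) {p : ℕ} (hp : p.Prime) [CharP E p] {c : E} (hc : c ^ p = 1) : c = 1 := by
  have : Fact p.Prime := ⟨hp⟩
  have h1 := red h
  have h2 : (c - 1) ^ p = 0 := by rw [sub_pow_char, hc, one_pow, sub_self]
  exact sub_eq_zero.1 (pow_eq_zero_iff hp.ne_zero |>.1 h2)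

theorem US.det {T : Subgroup (SU ι E)} {u : Matrix ι ι E} (hu : US T 1 u) (h1 : star u * u = 1) (h : Gd E)
    {p : ℕ} (hp : p.Prime) (hp2 : p ≠ 2) [CharP E p] [Nonempty ι] : u.det = 1 := by
  have hn := h.nontrivial
  have h2 := pow_p_of_cube hp hp2 (hu.cube h1)
  have h3 := congrArg Matrix.det h2
  rw [det_pow, det_one] at h3
  exact eq_one_of_pow h hp h3

/-- the matrix with all columns equal to `v` -/
def cs (v : ι → E) : Matrix ι ι E := Matrix.of fun i _ => v i

theorem mul_cs (A : Matrix ι ι E) (v : ι → E) : A * cs v = cs (A *ᵥ v) := by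
  ext i j
  rw [Matrix.mul_apply]
  rfl

theorem cs_inj [Nonempty ι] {v w : ι → E} (h : cs v = cs w) : v = w := by
  obtain ⟨j⟩ := ‹Nonempty ι›
  funext i
  exact congrFun (congrFun h i) j

theorem cs_mem [Nonempty ι] {T : Subgroup (SU ι E)} {v : ι → E} : cs v ∈ II T ↔ v ∈ Cv T := by
  refine forall₂_congr fun t ht => ?_
  rw [mul_cs]
  exact ⟨cs_inj, fun h => by rw [h]⟩

theorem mem_II_col {T : Subgroup (SU ι E)} {a : Matrix ι ι E} : a ∈ II T ↔ ∀ j, (fun i => a i j) ∈ Cv T := by
  constructor
  · intro h j t ht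
    have h1 := h t ht
    funext i
    exact congrFun (congrFun h1 i) j
  · intro h t ht
    ext i j
    exact congrFun (h j t ht) i

section

variable {T : Subgroup (SU ι E)} {x y : ι → E}

theorem mem_JJ_col [Nonempty ι] (hx : x ∈ Cv T) (hC : ∀ v ∈ Cv T, v = br y v • x) {b : Matrix ι ι E} :
    b ∈ JJ T ↔ ∀ j, br x (fun i => b i j) = 0 := by
  constructor
  · intro h j
    have h1 := h (cs x) (cs_mem.2 hx)
    obtain ⟨i⟩ := ‹Nonempty ι›
    exact congrFun (congrFun h1 i) j
  · intro h a ha
    ext i j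
    have h1 : (star a * b) i j = br (fun k => a k i) (fun k => b k j) := rfl
    rw [h1, hC _ (mem_II_col.1 ha i), br_smul_left, h j, mul_zero]
    rfl

theorem hh_US [Nonempty ι] (hx : x ∈ Cv T) (hxx : br x x = 0) (hC : ∀ v ∈ Cv T, v = br y v • x) {z : ι → E}
    (hz : br z x = 1) : US T (-1) (hh x z) := by
  refine ⟨fun a ha => ?_, fun b hb => ?_⟩
  · rw [Units.val_neg, Units.val_one, neg_smul, one_smul]
    ext i j
    have h1 : (hh x z * a) i j = (hh x z *ᵥ fun k => a k j) i := rfl
    have h2 := hC _ (mem_II_col.1 ha j)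
    have h3 : (-a) i j = (-(fun k => a k j)) i := rfl
    rw [h1, h3, h2, mulVec_smul, hh_mulVec, hz, hxx]
    simp
    ring
  · rw [mem_II_col]
    intro j
    have h1 := (mem_JJ_col hx hC).1 hb j
    have h2 : (fun i => (hh x z * b - b) i j) = (hh x z *ᵥ fun k => b k j) - fun k => b k j := rfl
    rw [h2, hh_mulVec, h1]
    have h3 : (fun k => b k j) - (2 * br z fun k => b k j) • x - (2 * (0 : E)) • z - (fun k => b k j) =
        -((2 * br z fun k => b k j) • x) := by
      rw [mul_zero, zero_smul]; abel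
    rw [h3]
    exact Submodule.neg_mem _ (Submodule.smul_mem _ _ hx)

theorem US.unique (h : Gd E) {p : ℕ} (hp : p.Prime) (hp2 : p ≠ 2) [CharP E p] [Nonempty ι] (hx : x ∈ Cv T)
    (hx0 : x ≠ 0) {u : Matrix ι ι E} {s s' : ℤˣ} (hu : US T s u) (hu' : US T s' u) : s = s' := by
  have h1 : (2 : E) • x ≠ 0 := fun h0 => hx0 ((two_unit h hp hp2).smul_eq_zero.1 h0)
  have h2 := (hu.1 _ (cs_mem.2 hx)).symm.trans (hu'.1 _ (cs_mem.2 hx))
  have h3 : ∀ a : ι → E, cs (-a) = -cs a := fun a => rfl
  rcases Int.units_eq_one_or s with rfl | rfl <;> rcases Int.units_eq_one_or s' with rfl | rfl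
  · rfl
  · exfalso
    rw [Units.val_neg, Units.val_one, neg_smul, one_smul, ← h3] at h2
    have h4 := cs_inj h2
    apply h1
    rw [two_smul]
    nth_rewrite 1 [h4]
    exact neg_add_cancel x
  · exfalso
    rw [Units.val_neg, Units.val_one, neg_smul, one_smul, ← h3] at h2
    have h4 := cs_inj h2
    apply h1
    rw [two_smul]
    nth_rewrite 1 [← h4]
    exact neg_add_cancel x
  · rfl

end

/-! ### star ring automorphisms -/

section

variable {T : Subgroup (SU ι E)} [Finite E] {θ : RingAut (Matrix ι ι E)} (hs : ∀ a, θ (star a) = star (θ a))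
  (hθ : ∀ t ∈ T, ∃ t' ∈ T, mt t' = θ (mt t))

include hθ in
theorem II_symm {a : Matrix ι ι E} (ha : a ∈ II T) : θ.symm a ∈ II T := by
  intro t ht
  obtain ⟨t', ht', e⟩ := hθ t ht
  apply θ.injective
  rw [map_mul, ← e, RingEquiv.apply_symm_apply]
  exact ha t' ht'

include hθ in
theorem II_map {a : Matrix ι ι E} (ha : a ∈ II T) : θ a ∈ II T := by
  have h1 : Function.Injective (fun a : II T => (⟨θ.symm a, II_symm hθ a.2⟩ : II T)) := by
    intro a b hab
    exact Subtype.ext (θ.symm.injective (congrArg Subtype.val hab))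
  have hf : Finite (Matrix ι ι E) := inferInstanceAs (Finite (ι → ι → E))
  obtain ⟨b, hb⟩ := (Finite.injective_iff_surjective.1 h1) ⟨a, ha⟩
  have h2 : θ.symm b = a := congrArg Subtype.val hb
  have h3 : θ a = b := by rw [← h2, RingEquiv.apply_symm_apply]
  rw [h3]
  exact b.2

include hs hθ in
theorem JJ_symm {b : Matrix ι ι E} (hb : b ∈ JJ T) : θ.symm b ∈ JJ T := by
  intro a ha
  apply θ.injective
  rw [map_mul, map_zero, RingEquiv.apply_symm_apply, hs]
  exact hb _ (II_map hθ ha)

include hs hθ in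
theorem US.map {s : ℤˣ} {u : Matrix ι ι E} (hu : US T s u) : US T s (θ u) := by
  refine ⟨fun a ha => ?_, fun b hb => ?_⟩
  · have h1 := congrArg θ (hu.1 _ (II_symm hθ ha))
    rw [map_mul, RingEquiv.apply_symm_apply, map_zsmul, RingEquiv.apply_symm_apply] at h1
    exact h1
  · have h1 := II_map hθ (hu.2 _ (JJ_symm hs hθ hb))
    rw [map_sub, map_mul, RingEquiv.apply_symm_apply] at h1
    exact h1

end

theorem unit_of_norm (h : Gd E) {c : E} (hc : star c * c = 1) (h1 : c ≠ 1) : IsUnit (c - 1) := by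
  cases h with
  | uni F i s _ hs => exact isUnit_iff_ne_zero.2 (sub_ne_zero.2 h1)
  | lin F i _ =>
    obtain ⟨a, b⟩ := c
    have h2 : b * a = 1 := congrArg Prod.fst hc
    have ha : a ≠ 1 := by
      rintro rfl
      rw [mul_one] at h2
      subst h2
      exact h1 rfl
    have hb : b ≠ 1 := by
      rintro rfl
      rw [one_mul] at h2
      exact ha h2
    exact Prod.isUnit_iff.2 ⟨isUnit_iff_ne_zero.2 (sub_ne_zero.2 ha), isUnit_iff_ne_zero.2 (sub_ne_zero.2 hb)⟩

/-- **(BOR)** -/
theorem bor_st (h : Gd E) : BorSt E := by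
  intro p hp hp2 hch ι _ _ hι T hTp hTi
  have hn := h.nontrivial
  have hfin := h.finite
  have hfp : Fact p.Prime := ⟨hp⟩
  have hne : Nonempty ι := Fintype.card_pos_iff.1 (by omega)
  obtain ⟨x, ⟨hx, hx'⟩, y, hy⟩ := exists_x h (X := Cv T ⊓ Cp T) (fun e he he0 => by
    obtain ⟨x, h1, h2, h3⟩ := exists_smul_ne h hp hp2 hι hTp hTi he he0
    exact ⟨x, ⟨h1, h2⟩, h3⟩)
  have hxx : br x x = 0 := hx' x hx
  have hC : ∀ v ∈ Cv T, v = br y v • x := fun v hv => Cv_eq h hp hp2 hι hTi hx hx' hy hv
  have hx0 : x ≠ 0 := by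
    rintro rfl
    rw [br_zero_right] at hy
    exact zero_ne_one hy
  -- the involution
  obtain ⟨c, hc, hcs⟩ := exists_half h hp hp2 (a := br y y) (star_br y y)
  have hxy : br x y = 1 := by rw [← star_br, hy, star_one]
  have hz : br (y - c • x) x = 1 := by rw [br_sub_left, br_smul_left, hxx, mul_zero, sub_zero, hy]
  have hzz : br (y - c • x) (y - c • x) = 0 := by
    simp only [br_sub_left, br_sub_right, br_smul_left, br_smul_right, hxx, hy, hxy, ← hc, hcs]
    ring
  obtain ⟨k, hk⟩ : ∃ k : SU ι E, H308.CA.mt k = hh x (y - c • x) := ⟨mkSU _ (hh_unitary hxx hzz hz) (hh_det hxx hzz hz), rfl⟩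
  have hkU : US T (-1) (mt k) := by
    rw [hk]
    exact hh_US hx hxx hC hz
  -- determinants
  have hdet : ∀ (s : ℤˣ) (u : Matrix ι ι E), star u * u = 1 → US T s u → u.det = 1 := by
    intro s u h1 h2
    rcases Int.units_eq_one_or s with rfl | rfl
    · exact h2.det h1 h hp hp2
    · have h3 := h2.mul hkU
      rw [neg_mul_neg, one_mul] at h3
      have h4 : star (u * mt k) * (u * mt k) = 1 := by
        rw [star_mul, mul_assoc, ← mul_assoc (star u), h1, one_mul, star_mt_mul]
      have h5 := h3.det h4 h hp hp2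
      rw [det_mul, mt_det, mul_one] at h5
      exact h5
  let Y : Subgroup (SU ι E) :=
    { carrier := {u | ∃ s, US T s (mt u)}
      mul_mem' := by
        rintro a b ⟨s, hs⟩ ⟨s', hs'⟩
        exact ⟨s * s', by rw [map_mul]; exact hs.mul hs'⟩
      one_mem' := ⟨1, by rw [map_one]; exact US.one T⟩
      inv_mem' := by
        rintro a ⟨s, hs⟩
        exact ⟨s, by rw [mt_inv]; exact hs.str (star_mt_mul a)⟩ }
  let Q : Subgroup (SU ι E) :=
    { carrier := {u | US T 1 (mt u)}
      mul_mem' := by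
        intro a b ha hb
        have h1 := US.mul ha hb
        rw [one_mul] at h1
        change US T 1 (mt (a * b))
        rw [map_mul]
        exact h1
      one_mem' := by
        change US T 1 (mt 1)
        rw [map_one]; exact US.one T
      inv_mem' := by
        intro a ha
        change US T 1 (mt a⁻¹)
        rw [mt_inv]; exact US.str ha (star_mt_mul a) }
  have hQY : Q ≤ Y := fun u hu => ⟨1, hu⟩
  refine ⟨Q, Y, hQY, ?_, ?_, ?_, ?_⟩
  · -- `Q` is a `p`-group
    intro u
    refine ⟨1, Subtype.ext (mt_injective ?_)⟩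
    rw [pow_one, Subgroup.coe_pow, map_pow, Subgroup.coe_one, map_one]
    exact pow_p_of_cube hp hp2 (US.cube u.2 (star_mt_mul _))
  · -- the index
    rw [Subgroup.relIndex, Subgroup.index_eq_two_iff]
    refine ⟨⟨k, ⟨-1, hkU⟩⟩, fun u => ?_⟩
    rw [Subgroup.mem_subgroupOf, Subgroup.mem_subgroupOf]
    obtain ⟨s, hu⟩ := u.2
    rcases Int.units_eq_one_or s with rfl | rfl
    · refine Or.inr ⟨hu, fun h1 => ?_⟩
      have h2 : US T 1 (mt ((u : SU ι E) * k)) := h1
      have h3 := hu.mul hkU
      rw [map_mul] at h2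
      rw [one_mul] at h3
      exact absurd (h2.unique h hp hp2 hx hx0 h3) (by decide)
    · refine Or.inl ⟨?_, fun h1 => ?_⟩
      · have h3 := hu.mul hkU
        rw [neg_mul_neg, one_mul, ← map_mul] at h3
        exact h3
      · have h2 : US T 1 (mt (u : SU ι E)) := h1
        exact absurd (h2.unique h hp hp2 hx hx0 hu) (by decide)
  · -- scalars
    rintro u ⟨s, hu⟩ ⟨e, he, heq⟩
    by_cases he1 : e = 1
    · have h1 : u = 1 := mt_injective (by rw [heq, he1, one_smul, map_one])
      rw [h1]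
      exact one_mem Q
    · exfalso
      obtain ⟨d, hd⟩ := (unit_of_norm h he he1).exists_left_inv
      -- all vectors orthogonal to `x` are multiples of `x`
      have h1 : ∀ v, br x v = 0 → v ∈ Cv T := by
        intro v hv
        have h2 : cs v ∈ JJ T := (mem_JJ_col hx hC).2 fun _ => hv
        have h3 := hu.2 _ h2
        rw [heq, smul_mul_assoc, one_mul] at h3
        have h4 : e • cs v - cs v = cs ((e - 1) • v) := by
          ext i j
          simp [cs, sub_mul]
        rw [h4, cs_mem] at h3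
        have h5 := Submodule.smul_mem _ d h3
        rwa [smul_smul, hd, one_smul] at h5
      have hinj : Function.Injective (fun v : ι → E => ((br x v, br y v) : E × E)) := by
        intro v w hvw
        have h2 : br x v = br x w := congrArg Prod.fst hvw
        have h3 : br y v = br y w := congrArg Prod.snd hvw
        have h4 := hC _ (h1 (v - w) (by rw [br_sub_right, h2, sub_self]))
        rw [br_sub_right, h3, sub_self, zero_smul] at h4
        exact sub_eq_zero.1 h4
      have h2 := Nat.card_le_card_of_injective _ hinj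
      rw [Nat.card_fun, Nat.card_prod, Nat.card_eq_fintype_card (α := ι)] at h2
      have h3 : 1 < Nat.card E := Finite.one_lt_card
      have h4 : Nat.card E ^ 3 ≤ Nat.card E ^ Fintype.card ι := Nat.pow_le_pow_right (by omega) hι
      have h5 : Nat.card E * Nat.card E < Nat.card E ^ 3 := by
        rw [pow_succ, sq]
        exact lt_mul_of_one_lt_right (by positivity) h3
      omega
  · -- automorphisms
    intro θ hs hθ
    have key : ∀ (s : ℤˣ) (u : SU ι E), US T s (mt u) → ∃ u' : SU ι E, US T s (mt u') ∧ mt u' = θ (mt u) := by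
      intro s u hu
      have h1 : US T s (θ (mt u)) := US.map hs hθ hu
      have h2 : star (θ (mt u)) * θ (mt u) = 1 := by rw [← hs, ← map_mul, star_mt_mul, map_one]
      exact ⟨mkSU _ h2 (hdet s _ h2 h1), h1, rfl⟩
    refine ⟨fun q hq => ?_, fun u hu => ?_⟩
    · obtain ⟨u', h1, h2⟩ := key 1 q hq
      exact ⟨u', h1, h2⟩
    · obtain ⟨s, hu⟩ := hu
      obtain ⟨u', h1, h2⟩ := key s u hu
      exact ⟨u', ⟨s, h1⟩, h2⟩

end Cfsg.Agent.H689.CA
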